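import Groth.Agent.Lib.ArtLift5.Ring
import Mathlib.AlgebraicGeometry.Morphisms.Smooth

/-!
# Lifting along surjections of Artinian local rings with finite residue extension
-/

set_option autoImplicit false
set_option backward.isDefEq.respectTransparency.types false

universe u

open IsLocalRing CategoryTheory AlgebraicGeometry

namespace Groth.Agent.ArtLift5

/-- Lifting property at `t` for test rings with trivial residue extension. -/
def TrivLifts {S T : Scheme.{u}} (g : T ⟶ S) (t : T) : Prop :=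
  ∀ (C C' : Type u) [CommRing C] [CommRing C'] [IsLocalRing C] [IsLocalRing C'] [IsArtinianRing C]
    [IsArtinianRing C'] (π : C' →+* C), Function.Surjective π →
    ∀ (a : Spec (CommRingCat.of C) ⟶ T) (b : Spec (CommRingCat.of C') ⟶ S),
      a (IsLocalRing.closedPoint C) = t →
      Function.Surjective (a.residueFieldMap (IsLocalRing.closedPoint C)).hom →
      Spec.map (CommRingCat.ofHom π) ≫ b = a ≫ g →
      ∃ c : Spec (CommRingCat.of C') ⟶ T, Spec.map (CommRingCat.ofHom π) ≫ c = a ∧ c ≫ g = b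

theorem exists_eq_of_specMap {X : Scheme.{u}} {R : CommRingCat.{u}} [IsLocalRing R] {x y : X}
    (p : X.presheaf.stalk x ⟶ R) (q : X.presheaf.stalk y ⟶ R) (hp : IsLocalHom p.hom) (hq : IsLocalHom q.hom)
    (h : Spec.map p ≫ X.fromSpecStalk x = Spec.map q ≫ X.fromSpecStalk y) :
    ∃ hxy : x = y, p = (X.presheaf.stalkCongr (by rw [hxy]; rfl)).hom ≫ q :=
  SpecToEquivOfLocalRing_eq_iff.1
    ((SpecToEquivOfLocalRing X R).symm.injective (a₁ := ⟨x, p, hp⟩) (a₂ := ⟨y, q, hq⟩) h)

theorem specMap_eq_of_eq {X : Scheme.{u}} {R : CommRingCat.{u}} {x y : X}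
    (p : X.presheaf.stalk x ⟶ R) (q : X.presheaf.stalk y ⟶ R) (hxy : x = y)
    (h : ∀ r, p r = q ((X.presheaf.stalkCongr (by rw [hxy]; rfl)).hom r)) :
    Spec.map p ≫ X.fromSpecStalk x = Spec.map q ≫ X.fromSpecStalk y := by
  subst hxy
  congr 2
  ext r
  simpa using h r

theorem residue_factor {X : Scheme.{u}} {C : Type u} [CommRing C] [IsLocalRing C]
    (a : Spec (CommRingCat.of C) ⟶ X) :
    ∃ E : (Spec (CommRingCat.of C)).residueField (closedPoint C) →+* ResidueField C,
      Function.Bijective E ∧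
      ∀ z, ResidueField.map (Scheme.stalkClosedPointTo a).hom z = E ((a.residueFieldMap (closedPoint C)).hom z) := by
  let i := (stalkClosedPointIso (CommRingCat.of C)).commRingCatIsoToRingEquiv
  haveI : IsLocalHom i.toRingHom := ⟨fun x hx => (MulEquiv.isUnit_map i.toMulEquiv).1 hx⟩
  refine ⟨ResidueField.map i.toRingHom, ⟨(ResidueField.map i.toRingHom).injective, fun z => ?_⟩, fun z => ?_⟩
  · obtain ⟨c, rfl⟩ := residue_surjective z
    exact ⟨residue _ (i.symm c), congrArg (residue C) (i.apply_symm_apply c)⟩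
  · obtain ⟨r, rfl⟩ := residue_surjective z
    rfl

theorem residueFieldMap_surjective_of {X : Scheme.{u}} {C : Type u} [CommRing C] [IsLocalRing C] (t : X)
    (φ : X.presheaf.stalk t ⟶ CommRingCat.of C) [IsLocalHom φ.hom]
    (h : ∀ c : C, ∃ r, c - φ.hom r ∈ maximalIdeal C) :
    Function.Surjective ((Spec.map φ ≫ X.fromSpecStalk t).residueFieldMap (closedPoint C)).hom := by
  set a := Spec.map φ ≫ X.fromSpecStalk t
  obtain ⟨h₁, he⟩ := SpecToEquivOfLocalRing_eq_iff.1
    ((SpecToEquivOfLocalRing X (CommRingCat.of C)).apply_symm_apply ⟨t, φ, inferInstance⟩)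
  change Scheme.stalkClosedPointTo a = _ ≫ φ at he
  obtain ⟨E, hE, hEq⟩ := residue_factor a
  intro z
  obtain ⟨c, hc⟩ := residue_surjective (E z)
  obtain ⟨r, hr⟩ := h c
  obtain ⟨r', hr'⟩ : ∃ r', (X.presheaf.stalkCongr (Inseparable.of_eq h₁ : Inseparable (a (closedPoint C)) t)).hom r' = r :=
    (ConcreteCategory.bijective_of_isIso (X.presheaf.stalkCongr _).hom).2 r
  refine ⟨residue _ r', hE.1 ?_⟩
  rw [← hEq]
  change residue C ((Scheme.stalkClosedPointTo a).hom r') = _
  rw [← hc, he]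
  change residue C (φ.hom ((X.presheaf.stalkCongr _).hom r')) = _
  rw [hr']
  exact ((IsLocalRing.residue C).map_sub c (φ.hom r) ▸ (residue_eq_zero_iff _).2 hr |> sub_eq_zero.1).symm

/-- Lifts for test rings with finite residue extension. -/
theorem lift_finite {S T : Scheme.{u}} (g : T ⟶ S) (C C' : Type u) [CommRing C] [CommRing C'] [IsLocalRing C]
    [IsLocalRing C'] [IsArtinianRing C] [IsArtinianRing C'] (π : C' →+* C) (hπ : Function.Surjective π)
    (a : Spec (CommRingCat.of C) ⟶ T) (b : Spec (CommRingCat.of C') ⟶ S)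
    (hT : TrivLifts g (a (closedPoint C)))
    (hfin : (a.residueFieldMap (closedPoint C)).hom.Finite)
    (w : Spec.map (CommRingCat.ofHom π) ≫ b = a ≫ g) :
    ∃ c : Spec (CommRingCat.of C') ⟶ T, Spec.map (CommRingCat.ofHom π) ≫ c = a ∧ c ≫ g = b := by
  haveI : IsLocalHom π := IsLocalHom.of_surjective _ hπ
  let φ := (Scheme.stalkClosedPointTo a).hom
  haveI : IsLocalHom φ := inferInstanceAs (IsLocalHom (Scheme.stalkClosedPointTo a).hom)
  have hφfin : (ResidueField.map φ).Finite := by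
    obtain ⟨E, hE, hEq⟩ := residue_factor a
    rw [show ResidueField.map φ = E.comp (a.residueFieldMap (closedPoint C)).hom from RingHom.ext hEq]
    exact (RingHom.Finite.of_surjective E hE.2).comp hfin
  letI := isLocalRing_sub φ
  letI := isLocalRing_comap φ π hπ
  haveI := isArtinianRing_sub φ hφfin
  haveI := isArtinianRing_comap φ π hπ hφfin
  haveI := isLocalHom_toSub φ
  let ψ := (Scheme.stalkClosedPointTo b).hom
  have h1 : Spec.map (Scheme.stalkClosedPointTo b ≫ CommRingCat.ofHom π) ≫ S.fromSpecStalk _ =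
      Spec.map (g.stalkMap (a (closedPoint C)) ≫ Scheme.stalkClosedPointTo a) ≫ S.fromSpecStalk _ := by
    rw [Spec.map_comp, Category.assoc, Scheme.Spec_stalkClosedPointTo_fromSpecStalk, w, Spec.map_comp,
      Category.assoc, Scheme.SpecMap_stalkMap_fromSpecStalk, ← Category.assoc,
      Scheme.Spec_stalkClosedPointTo_fromSpecStalk]
  haveI : IsLocalHom ψ := inferInstanceAs (IsLocalHom (Scheme.stalkClosedPointTo b).hom)
  obtain ⟨hcpt, h4⟩ := exists_eq_of_specMap _ _ (RingHom.isLocalHom_comp π ψ)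
    (RingHom.isLocalHom_comp φ (g.stalkMap (a (closedPoint C))).hom) h1
  have h5 : ∀ r, π (ψ r) = φ ((g.stalkMap (a (closedPoint C))).hom
      ((S.presheaf.stalkCongr (by rw [hcpt]; rfl)).hom r)) := fun r => ConcreteCategory.congr_hom h4 r
  have hψ : ∀ r, π (ψ r) ∈ sub φ := fun r => by
    rw [h5]
    exact ⟨_, by rw [sub_self]; exact Submodule.zero_mem _⟩
  let φ₀ : T.presheaf.stalk (a (closedPoint C)) ⟶ CommRingCat.of (sub φ) := CommRingCat.ofHom (toSub φ)
  haveI : IsLocalHom φ₀.hom := isLocalHom_toSub φ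
  let ψ₀ : S.presheaf.stalk (b (closedPoint C')) ⟶ CommRingCat.of ((sub φ).comap π) :=
    CommRingCat.ofHom (ψ.codRestrict ((sub φ).comap π) hψ)
  let a₀ := Spec.map φ₀ ≫ T.fromSpecStalk (a (closedPoint C))
  let b₀ := Spec.map ψ₀ ≫ S.fromSpecStalk (b (closedPoint C'))
  have hι : Spec.map (CommRingCat.ofHom (sub φ).subtype) ≫ a₀ = a := by
    rw [← Category.assoc, ← Spec.map_comp]
    exact Scheme.Spec_stalkClosedPointTo_fromSpecStalk a
  have hι' : Spec.map (CommRingCat.ofHom ((sub φ).comap π).subtype) ≫ b₀ = b := by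
    rw [← Category.assoc, ← Spec.map_comp]
    exact Scheme.Spec_stalkClosedPointTo_fromSpecStalk b
  have hcl : a₀ (closedPoint (sub φ)) = a (closedPoint C) := by
    rw [Scheme.Hom.comp_apply, Spec_closedPoint, Scheme.fromSpecStalk_closedPoint]
  -- the square over the subrings
  have hw : Spec.map (CommRingCat.ofHom (comapMap φ π)) ≫ b₀ = a₀ ≫ g := by
    rw [Category.assoc, ← Scheme.SpecMap_stalkMap_fromSpecStalk, ← Category.assoc, ← Category.assoc,
      ← Spec.map_comp, ← Spec.map_comp]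
    exact specMap_eq_of_eq _ _ hcpt fun r => Subtype.ext (h5 r)
  obtain ⟨c₀, hc₀, hc₀g⟩ := hT (sub φ) ((sub φ).comap π) (comapMap φ π) (comapMap_surjective φ π hπ) a₀ b₀ hcl
    (residueFieldMap_surjective_of _ φ₀ (toSub_residue_surjective φ)) hw
  refine ⟨Spec.map (CommRingCat.ofHom ((sub φ).comap π).subtype) ≫ c₀, ?_, by rw [Category.assoc, hc₀g, hι']⟩
  rw [← Category.assoc, ← Spec.map_comp,
    show CommRingCat.ofHom ((sub φ).comap π).subtype ≫ CommRingCat.ofHom π =
      CommRingCat.ofHom (comapMap φ π) ≫ CommRingCat.ofHom (sub φ).subtype from rfl,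
    Spec.map_comp, Category.assoc, hc₀, hι]

/-- A local ring maps into any open containing the image of its closed point. -/
theorem exists_fac_affine {X : Scheme.{u}} {U : X.Opens} (hU : IsAffineOpen U) {A : Type u} [CommRing A]
    [IsLocalRing A] (m : Spec (CommRingCat.of A) ⟶ X) (hm : m (closedPoint A) ∈ U) :
    ∃ χ : Γ(X, U) ⟶ CommRingCat.of A, Spec.map χ ≫ hU.fromSpec = m := by
  have h : Set.range m ⊆ Set.range hU.fromSpec := by
    rw [hU.range_fromSpec]
    rintro _ ⟨z, rfl⟩
    exact ((IsLocalRing.specializes_closedPoint z).map m.continuous).mem_open U.2 hm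
  refine ⟨Spec.preimage (IsOpenImmersion.lift hU.fromSpec m h), ?_⟩
  rw [Spec.map_preimage, IsOpenImmersion.lift_fac]

/-- Smooth morphisms lift along surjections of Artinian local rings. -/
theorem lift_smooth {T U : Scheme.{u}} (e : U ⟶ T) [Smooth e] (C C' : Type u) [CommRing C] [CommRing C']
    [IsLocalRing C] [IsLocalRing C'] [IsArtinianRing C'] (π : C' →+* C) (hπ : Function.Surjective π)
    (a : Spec (CommRingCat.of C) ⟶ U) (c : Spec (CommRingCat.of C') ⟶ T)
    (w : Spec.map (CommRingCat.ofHom π) ≫ c = a ≫ e) :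
    ∃ c' : Spec (CommRingCat.of C') ⟶ U, Spec.map (CommRingCat.ofHom π) ≫ c' = a ∧ c' ≫ e = c := by
  haveI : IsLocalHom π := IsLocalHom.of_surjective _ hπ
  obtain ⟨V, hV, hcV, -⟩ := exists_isAffineOpen_mem_and_subset (X := T) (x := e (a (closedPoint C))) (U := ⊤) trivial
  obtain ⟨W, hW, haW, hWV⟩ := exists_isAffineOpen_mem_and_subset (X := U) (x := a (closedPoint C))
    (U := e ⁻¹ᵁ V) hcV
  obtain ⟨σ, hσ⟩ := exists_fac_affine hW a haW
  have hcl : c (closedPoint C') = e (a (closedPoint C)) := by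
    have := congrArg (fun m : Spec (CommRingCat.of C) ⟶ T => m (closedPoint C)) w
    simp only [Scheme.Hom.comp_apply] at this
    rw [← this]
    exact congrArg c (IsLocalRing.comap_closedPoint π).symm
  obtain ⟨ρ, hρ⟩ := exists_fac_affine hV c (hcl ▸ hcV)
  have hsq : e.appLE V W hWV ≫ σ = ρ ≫ CommRingCat.ofHom π := by
    refine Spec.map_injective ((cancel_mono hV.fromSpec).1 ?_)
    rw [Spec.map_comp, Spec.map_comp, Category.assoc, hV.SpecMap_appLE_fromSpec e hW hWV, ← Category.assoc, hσ,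
      Category.assoc, hρ, w]
  letI := (e.appLE V W hWV).hom.toAlgebra
  letI := ρ.hom.toAlgebra
  haveI : Algebra.Smooth Γ(T, V) Γ(U, W) := e.smooth_appLE hV hW hWV
  letI : Algebra Γ(T, V) C := (π.comp ρ.hom).toAlgebra
  let πA : C' →ₐ[Γ(T, V)] C := { π with commutes' := fun _ => rfl }
  let σA : Γ(U, W) →ₐ[Γ(T, V)] C := { σ.hom with commutes' := fun r => ConcreteCategory.congr_hom hsq r }
  have hnil : IsNilpotent (RingHom.ker πA.toRingHom) := by
    obtain ⟨n, hn⟩ := IsArtinianRing.isNilpotent_jacobson_bot (R := C')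
    refine ⟨n, le_bot_iff.1 ((Ideal.pow_right_mono ?_ n).trans hn.le)⟩
    exact (le_maximalIdeal (RingHom.ker_ne_top _)).trans (maximalIdeal_le_jacobson ⊥)
  let ℓ := Algebra.FormallySmooth.liftOfSurjective σA πA hπ hnil
  refine ⟨Spec.map (CommRingCat.ofHom ℓ.toRingHom) ≫ hW.fromSpec, ?_, ?_⟩
  · rw [← Category.assoc, ← Spec.map_comp, ← hσ]
    congr 2
    exact CommRingCat.hom_ext (RingHom.ext fun x =>
      Algebra.FormallySmooth.liftOfSurjective_apply σA πA hπ hnil x)
  · rw [Category.assoc, ← hV.SpecMap_appLE_fromSpec e hW hWV, ← Category.assoc, ← Spec.map_comp, ← hρ]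
    congr 2
    exact CommRingCat.hom_ext (RingHom.ext ℓ.commutes)

end Groth.Agent.ArtLift5
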