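import Mathlib

/-!
# The subring of a local ring of elements with residue in a given residue field
-/

set_option autoImplicit false

universe u

open IsLocalRing

namespace Groth.Agent.ArtLift5

variable {R C : Type u} [CommRing R] [CommRing C] [IsLocalRing C] (φ : R →+* C)

/-- Elements congruent to the image of `R` modulo the maximal ideal. -/
def sub : Subring C where
  carrier := {c | ∃ r, c - φ r ∈ maximalIdeal C}
  mul_mem' := by
    rintro a b ⟨r, hr⟩ ⟨t, ht⟩
    refine ⟨r * t, ?_⟩
    have : a * b - φ (r * t) = (a - φ r) * b + φ r * (b - φ t) := by rw [map_mul]; ring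
    rw [this]
    exact add_mem (Ideal.mul_mem_right _ _ hr) (Ideal.mul_mem_left _ _ ht)
  one_mem' := ⟨1, by simp⟩
  add_mem' := by
    rintro a b ⟨r, hr⟩ ⟨t, ht⟩
    exact ⟨r + t, by rw [map_add, add_sub_add_comm]; exact add_mem hr ht⟩
  zero_mem' := ⟨0, by simp⟩
  neg_mem' := by
    rintro a ⟨r, hr⟩
    exact ⟨-r, by rw [map_neg, neg_sub_neg, ← neg_sub]; exact neg_mem hr⟩

theorem mem_sub {c : C} : c ∈ sub φ ↔ ∃ r, c - φ r ∈ maximalIdeal C := Iff.rfl

/-- The map into the subring. -/
def toSub : R →+* sub φ := φ.codRestrict (sub φ) fun r => ⟨r, by simp⟩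

variable [IsLocalRing R] [IsLocalHom φ]

theorem inv_mem_sub {c d : C} (hc : c ∈ sub φ) (hcd : c * d = 1) : d ∈ sub φ := by
  obtain ⟨r, hr⟩ := hc
  have hu : IsUnit (φ r) := by
    by_contra h
    have hcm : c ∈ maximalIdeal C := by simpa using add_mem hr (show φ r ∈ maximalIdeal C from h)
    exact hcm (IsUnit.of_mul_eq_one _ hcd)
  obtain ⟨v, rfl⟩ := IsLocalHom.map_nonunit r hu
  refine ⟨↑v⁻¹, ?_⟩
  have h1 : d - φ ↑v⁻¹ = -(d * φ ↑v⁻¹) * (c - φ ↑v) := by
    have h2 : φ ↑v⁻¹ * φ ↑v = 1 := by rw [← map_mul, Units.inv_mul, map_one]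
    linear_combination φ ↑v⁻¹ * hcd - d * h2
  rw [h1]
  exact Ideal.mul_mem_left _ _ hr

theorem isUnit_coe_iff (c : sub φ) : IsUnit (c : C) ↔ IsUnit c := by
  refine ⟨fun h => ?_, fun h => h.map (sub φ).subtype⟩
  obtain ⟨d, hd⟩ := isUnit_iff_exists_inv.1 h
  exact isUnit_iff_exists_inv.2 ⟨⟨d, inv_mem_sub φ c.2 hd⟩, Subtype.ext hd⟩

theorem isLocalRing_sub : IsLocalRing (sub φ) :=
  IsLocalRing.of_isUnit_or_isUnit_one_sub_self fun c =>
    (IsLocalRing.isUnit_or_isUnit_one_sub_self (c : C)).imp (isUnit_coe_iff φ c).1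
      (fun h => (isUnit_coe_iff φ (1 - c)).1 h)

theorem isLocalHom_subtype : IsLocalHom (sub φ).subtype := ⟨fun c h => (isUnit_coe_iff φ c).1 h⟩

theorem isLocalHom_toSub : IsLocalHom (toSub φ) :=
  ⟨fun r h => IsLocalHom.map_nonunit (f := φ) r (h.map (sub φ).subtype)⟩

theorem moduleFinite_residue (A B : Type u) [CommRing A] [IsLocalRing A] [CommRing B] [IsLocalRing B]
    [Algebra A B] [IsLocalHom (algebraMap A B)] (h : (ResidueField.map (algebraMap A B)).Finite) :
    Module.Finite (ResidueField A) (ResidueField B) := by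
  rw [← RingHom.finite_algebraMap]
  have he : algebraMap (ResidueField A) (ResidueField B) = ResidueField.map (algebraMap A B) :=
    RingHom.ext fun z => by
      obtain ⟨a, rfl⟩ := residue_surjective z
      rfl
  rwa [he]

/-- An Artinian local ring is finite over a local ring with finite residue extension; so is each subring. -/
theorem isArtinianRing_of_finite_residue (A B : Type u) [CommRing A] [IsLocalRing A] [CommRing B] [IsLocalRing B]
    [IsArtinianRing B] [Algebra A B] [IsLocalHom (algebraMap A B)]
    [Module.Finite (ResidueField A) (ResidueField B)] (hinj : Function.Injective (algebraMap A B)) :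
    IsArtinianRing A := by
  have hlen : Module.length A B ≠ ⊤ := by
    rw [IsLocalRing.length_restrictScalars A B B]
    have h1 : Module.length B B ≠ ⊤ := by
      rw [Module.length_ne_top_iff, isFiniteLength_iff_isNoetherian_isArtinian]
      exact ⟨inferInstance, inferInstance⟩
    have h2 : Module.length (ResidueField A) (ResidueField B) ≠ ⊤ := by
      rw [Module.length_ne_top_iff, isFiniteLength_iff_isNoetherian_isArtinian]
      exact ⟨inferInstance, inferInstance⟩
    exact WithTop.mul_ne_top h1 h2
  rw [Module.length_ne_top_iff, isFiniteLength_iff_isNoetherian_isArtinian] at hlen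
  haveI := hlen.2
  exact isArtinian_of_injective (Algebra.linearMap A B) hinj

theorem finite_residue_sub {R C : Type u} [CommRing R] [CommRing C] [IsLocalRing C] [IsLocalRing R]
    (φ : R →+* C) [IsLocalHom φ] (hfin : (ResidueField.map φ).Finite) :
    letI := isLocalRing_sub φ
    haveI := isLocalHom_subtype φ
    (ResidueField.map (sub φ).subtype).Finite := by
  letI := isLocalRing_sub φ
  haveI := isLocalHom_subtype φ
  haveI := isLocalHom_toSub φ
  refine RingHom.Finite.of_comp_finite (f := ResidueField.map (toSub φ)) ?_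
  have : (ResidueField.map (sub φ).subtype).comp (ResidueField.map (toSub φ)) = ResidueField.map φ :=
    RingHom.ext fun z => by
      obtain ⟨r, rfl⟩ := residue_surjective z
      rfl
  rwa [this]

theorem toSub_residue_surjective {R C : Type u} [CommRing R] [CommRing C] [IsLocalRing C] [IsLocalRing R]
    (φ : R →+* C) [IsLocalHom φ] :
    letI := isLocalRing_sub φ
    ∀ c : sub φ, ∃ r, c - toSub φ r ∈ maximalIdeal (sub φ) := by
  letI := isLocalRing_sub φ
  intro c
  obtain ⟨r, hr⟩ := c.2
  exact ⟨r, fun h => hr (h.map (sub φ).subtype)⟩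

theorem isArtinianRing_sub {R C : Type u} [CommRing R] [CommRing C] [IsLocalRing C] [IsLocalRing R]
    [IsArtinianRing C] (φ : R →+* C) [IsLocalHom φ] (hfin : (ResidueField.map φ).Finite) :
    IsArtinianRing (sub φ) := by
  letI := isLocalRing_sub φ
  haveI : IsLocalHom (algebraMap (sub φ) C) := isLocalHom_subtype φ
  haveI : Module.Finite (ResidueField (sub φ)) (ResidueField C) :=
    moduleFinite_residue (sub φ) C (finite_residue_sub φ hfin)
  exact isArtinianRing_of_finite_residue (sub φ) C Subtype.val_injective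

variable {C' : Type u} [CommRing C'] [IsLocalRing C'] (π : C' →+* C) (hπ : Function.Surjective π)

include hπ in
theorem isUnit_comap_iff (c : (sub φ).comap π) : IsUnit (c : C') ↔ IsUnit c := by
  haveI : IsLocalHom π := IsLocalHom.of_surjective _ hπ
  refine ⟨fun h => ?_, fun h => h.map ((sub φ).comap π).subtype⟩
  obtain ⟨d, hd⟩ := isUnit_iff_exists_inv.1 h
  exact isUnit_iff_exists_inv.2 ⟨⟨d, inv_mem_sub φ c.2 (by rw [← map_mul, hd, map_one])⟩, Subtype.ext hd⟩

include hπ in
theorem isLocalRing_comap : IsLocalRing ((sub φ).comap π) :=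
  IsLocalRing.of_isUnit_or_isUnit_one_sub_self fun c =>
    (IsLocalRing.isUnit_or_isUnit_one_sub_self (c : C')).imp (isUnit_comap_iff φ π hπ c).1
      (fun h => (isUnit_comap_iff φ π hπ (1 - c)).1 h)

/-- The map of subrings. -/
def comapMap : (sub φ).comap π →+* sub φ :=
  (π.comp ((sub φ).comap π).subtype).codRestrict (sub φ) fun c => c.2

include hπ in
theorem comapMap_surjective : Function.Surjective (comapMap φ π) := fun c => by
  obtain ⟨c', hc'⟩ := hπ c
  exact ⟨⟨c', show π c' ∈ sub φ by rw [hc']; exact c.2⟩, Subtype.ext hc'⟩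

include hπ in
theorem isArtinianRing_comap [IsArtinianRing C'] (hfin : (ResidueField.map φ).Finite) :
    IsArtinianRing ((sub φ).comap π) := by
  letI := isLocalRing_sub φ
  letI := isLocalRing_comap φ π hπ
  haveI : IsLocalHom π := IsLocalHom.of_surjective _ hπ
  haveI : IsLocalHom (comapMap φ π) := IsLocalHom.of_surjective _ (comapMap_surjective φ π hπ)
  haveI : IsLocalHom ((sub φ).comap π).subtype := ⟨fun c h => (isUnit_comap_iff φ π hπ c).1 h⟩
  haveI : IsLocalHom (algebraMap ((sub φ).comap π) C') := ‹IsLocalHom ((sub φ).comap π).subtype›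
  haveI := isLocalHom_subtype φ
  have hbij : Function.Bijective (ResidueField.map π) :=
    ⟨(ResidueField.map π).injective, fun z => by
      obtain ⟨c, rfl⟩ := residue_surjective z
      obtain ⟨c', rfl⟩ := hπ c
      exact ⟨residue _ c', rfl⟩⟩
  haveI : Module.Finite (ResidueField ((sub φ).comap π)) (ResidueField C') := by
    let e := RingEquiv.ofBijective _ hbij
    have h0 : ((ResidueField.map (sub φ).subtype).comp (ResidueField.map (comapMap φ π))).Finite :=
      (finite_residue_sub φ hfin).comp (RingHom.Finite.of_surjective _ fun z => by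
        obtain ⟨c, rfl⟩ := residue_surjective z
        obtain ⟨c', rfl⟩ := comapMap_surjective φ π hπ c
        exact ⟨residue _ c', rfl⟩)
    have h1 := (RingHom.Finite.of_surjective e.symm.toRingHom e.symm.surjective).comp h0
    have h2 : e.symm.toRingHom.comp ((ResidueField.map (sub φ).subtype).comp (ResidueField.map (comapMap φ π))) =
        ResidueField.map ((sub φ).comap π).subtype := by
      refine RingHom.ext fun z => e.injective ?_
      obtain ⟨c, rfl⟩ := residue_surjective z
      exact e.apply_symm_apply _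
    rw [h2] at h1
    exact moduleFinite_residue _ C' h1
  exact isArtinianRing_of_finite_residue _ C' Subtype.val_injective

end Groth.Agent.ArtLift5
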